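import Groth.Agent.SymSq.K980.SymInt

/-!
# The square of the canonical class of the symmetric square of a hyperelliptic curve

If `π^* W ≅ F_(g-2) ⊗ N` on `C × C`, then `(W · W) = (g - 1) (4 g - 9)` on `Sym² C`.
-/

set_option autoImplicit false
universe u

open CategoryTheory CategoryTheory.Limits AlgebraicGeometry Opposite TopologicalSpace

namespace K172.CanSq

open Groth.Agent Groth.Agent.Fdesc.LocGen Groth.Agent.Grpsch.PicGrp
open K980.DCover K980.Graph K980.CokerQ K980.InvQuot K980.PicNum K980.QuotSeq K980.Snap K980.BoxNum K980.Main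
open K980.SymData K980.Inter K980.SymInt

attribute [local instance] ov

variable (k : Type u) [Field k] {C : Scheme.{u}} [C.Over (Spec (CommRingCat.of k))]

local notation "XX" => pullback (C ↘ Spec (CommRingCat.of k)) (C ↘ Spec (CommRingCat.of k))

section

variable [IsProper (C ↘ Spec (CommRingCat.of k))] (hdim : topologicalKrullDim C ≤ 1) [IsIntegral C]
  {τ : C ⟶ C} (hτ : τ ≫ (C ↘ Spec (CommRingCat.of k)) = C ↘ Spec (CommRingCat.of k))
  {T : (pullback (C ↘ Spec (CommRingCat.of k)) (C ↘ Spec (CommRingCat.of k))).Modules} (hT : PicF.IsInvertible T)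
  (hTinv : ClSub.IsInverseOf T (ClSub.idealMod (gr k τ hτ).ker))

include hdim hTinv in
/-- The self-intersection of `b + Γ_τ`. -/
theorem qf_add_graph (b : Pic XX) : qf k (b * mk T hT) (b * mk T hT) =
    qf k b b + 2 * K980.NumC.dg k (pull (gr k τ hτ) b) + K980.NumC.dg k (pull (gr k τ hτ) (mk T hT)) := by
  have h1 := qf_graph k hdim hτ hT hTinv b
  have h2 := qf_graph k hdim hτ hT hTinv (b * b)
  have h3 := qf_graph k hdim hτ hT hTinv (b * b * mk T hT)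
  rw [map_mul, K980.NumC.dg_mul k hdim] at h2
  rw [map_mul, map_mul, K980.NumC.dg_mul k hdim, K980.NumC.dg_mul k hdim] at h3
  have h4 : b * mk T hT * (b * mk T hT) = b * b * mk T hT * mk T hT := by
    rw [mul_mul_mul_comm, mul_assoc (b * b)]
  rw [qf] at h1 h2 h3 ⊢
  rw [qf, h4]
  linarith

end

section Hyp

variable (κ : C ⟶ CohB1.ProjSpace 1 k) [IsAlgClosed k] (h2 : (2 : k) ≠ 0)
  [IsProper (C ↘ Spec (CommRingCat.of k))] [IsIntegral C] (hdim : topologicalKrullDim C ≤ 1)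
  (g : ℕ) (hgen : Curv2.genus k C = g)
  (hκ : κ ≫ CohB1.ProjSpace.toSpec 1 k = (C ↘ Spec (CommRingCat.of k)))
  [IsFinite κ]
  {σ : C ⟶ C} (h : σ ≫ κ = κ) (hσ : σ ≫ (C ↘ Spec (CommRingCat.of k)) = C ↘ Spec (CommRingCat.of k))
  (hσ1 : σ ≠ 𝟙 C)
  (y : ∀ i : Fin 2, Γ(C, κ ⁻¹ᵁ CurvesC.ProjSpaceBasic.Dp 1 k i))
  (hy : ∀ (i : Fin 2) (V : (CohB1.ProjSpace 1 k).Opens) (hV : V ≤ CurvesC.ProjSpaceBasic.Dp 1 k i),
    Function.Bijective (K980.DCover.pr κ (y i) V hV))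
  {N : (pullback (C ↘ Spec (CommRingCat.of k)) (C ↘ Spec (CommRingCat.of k))).Modules} (hN : PicF.IsInvertible N)
  (hNinv : ClSub.IsInverseOf N (ClSub.idealMod (gr k σ hσ).ker))

include hdim hgen hκ h hσ1 hy hNinv in
/-- `(m F + Γ_σ)² = 8 m² + 8 m + 2 - 2 g`. -/
theorem qf_fn (m : ℤ) : qf k (K980.Setup.fc k κ m * mk N hN) (K980.Setup.fc k κ m * mk N hN) =
    8 * m * m + 8 * m + 2 - 2 * g := by
  rw [qf_add_graph k hdim hσ hN hNinv, pull_gr_fc k κ hσ h, K980.Setup.fc, qf_box k hdim,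
    K980.Num.pull_n k κ g hgen hκ h hσ hσ1 y hy hN hNinv, K980.NumC.dg_ell k g hgen κ hκ y hy hdim,
    K980.NumC.dg_ell k g hgen κ hκ y hy hdim, K980.NumC.dg_ell k g hgen κ hκ y hy hdim]
  ring

end Hyp

/-- **`K_S² = (g - 1) (4 g - 9)`**, given that `π^* W ≅ F_(g-2) ⊗ N`. -/
theorem main (k : Type u) [Field k] [IsAlgClosed k] (h2 : (2 : k) ≠ 0)
    (C : Scheme.{u}) [C.Over (Spec (CommRingCat.of k))] [IsProper (C ↘ Spec (CommRingCat.of k))] [Smooth (C ↘ Spec (CommRingCat.of k))] [ConnectedSpace ↥C]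
    (hdim : topologicalKrullDim ↥C = 1) (g : ℕ) (hg : 2 ≤ g) (hgen : Curv2.genus k C = g)
    (κ : C ⟶ CohB1.ProjSpace 1 k) (hκ : κ ≫ CohB1.ProjSpace.toSpec 1 k = (C ↘ Spec (CommRingCat.of k)))
    [IsFinite κ] [Flat κ] (hκ2 : ∀ y : ↥(CohB1.ProjSpace 1 k), κ.finrank y = 2)
    (σ : C ⟶ C) (hσ : σ ≫ κ = κ) (hσ1 : σ ≠ 𝟙 C) (hσp : σ ≫ (C ↘ Spec (CommRingCat.of k)) = (C ↘ Spec (CommRingCat.of k)))
    (N : (pullback (C ↘ Spec (CommRingCat.of k)) (C ↘ Spec (CommRingCat.of k))).Modules) (hN : PicF.IsInvertible N)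
    (hNinv : ClSub.IsInverseOf N (ClSub.idealMod (pullback.lift (𝟙 C) σ ((Category.id_comp (C ↘ Spec (CommRingCat.of k))).trans hσp.symm)).ker))
    (ρ : ULift.{u} (Equiv.Perm (Fin 2)) →* Aut (pullback (C ↘ Spec (CommRingCat.of k)) (C ↘ Spec (CommRingCat.of k)))) (hρ : (ρ (ULift.up (Equiv.swap 0 1))).hom = (pullbackSymmetry (C ↘ Spec (CommRingCat.of k)) (C ↘ Spec (CommRingCat.of k))).hom)
    (Sq : Scheme.{u}) (π : (pullback (C ↘ Spec (CommRingCat.of k)) (C ↘ Spec (CommRingCat.of k))) ⟶ Sq) (hπ : SGA1.IsQuot ρ π) (q : Sq ⟶ Spec (CommRingCat.of k)) (hq : π ≫ q = pullback.fst (C ↘ Spec (CommRingCat.of k)) (C ↘ Spec (CommRingCat.of k)) ≫ (C ↘ Spec (CommRingCat.of k)))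
    (W : Sq.Modules) (hW : PicF.IsInvertible W)
    (hWπ : Nonempty ((Scheme.Modules.pullback π).obj W ≅ (CohB1.tensorMod (CohB1.tensorMod ((Scheme.Modules.pullback (pullback.fst (C ↘ Spec (CommRingCat.of k)) (C ↘ Spec (CommRingCat.of k)))).obj (CohB1.tensorPow ((Scheme.Modules.pullback κ).obj (Twist.twistProjSpace 1 k 1)) (g - 2))) ((Scheme.Modules.pullback (pullback.snd (C ↘ Spec (CommRingCat.of k)) (C ↘ Spec (CommRingCat.of k)))).obj (CohB1.tensorPow ((Scheme.Modules.pullback κ).obj (Twist.twistProjSpace 1 k 1)) (g - 2)))) (CohB1.tensorPow N 1)))) :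
    letI : Sq.Over (Spec (CommRingCat.of k)) := ⟨q⟩
    FGA.intNum k Sq 2 ![W, W] (Coh.structureModule Sq) = ((g : ℤ) - 1) * (4 * (g : ℤ) - 9) := by
  have hI := K980.Setup.isIntegral_of_connected (C ↘ Spec (CommRingCat.of k))
  obtain ⟨y, hy⟩ := K980.DCover.exists_basis k κ hκ2
  let iS : Sq.Over (Spec (CommRingCat.of k)) := ⟨q⟩
  have c1 := K980.SymData.pull_mk_eq π hW (K980.Setup.isInvertible_FN k κ (g - 2) 1 hN) hWπ
  rw [K980.Setup.mk_FN, pow_one] at c1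
  have hd := hdim.le
  have key := @K980.SymInt.intNum_sym k _ C _ κ _ h2 _ _ hd g hgen hκ _ σ hσ hσp hσ1 y hy N hN hNinv ρ hρ Sq π hπ q hq
  have v0 : ∀ a b : Pic C, ∀ i, 3 ≤ i → K980.PicNum.Van (K980.BoxNum.bx k a b) i :=
    fun a b i hi => K980.SymInt.van_bx3 k hd a b hi
  have v1 : ∀ a b : Pic C, ∀ i, 3 ≤ i → K980.PicNum.Van (K980.BoxNum.bx k a b * mk N hN) i := fun a b i hi =>
    K980.Inter.van_mul k hd hσp hN hNinv _ hi (v0 a b i hi)
  refine key hW hW _ ?_ ?_ ?_ ?_ <;> simp only [c1]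
  · exact v1 _ _
  · exact v1 _ _
  · intro i hi
    have h5 : K980.Setup.fc k κ ((g - 2 : ℕ) : ℤ) * mk N hN * (K980.Setup.fc k κ ((g - 2 : ℕ) : ℤ) * mk N hN) =
        K980.BoxNum.bx k (K980.NumC.ell k κ ((g - 2 : ℕ) : ℤ) * K980.NumC.ell k κ ((g - 2 : ℕ) : ℤ))
          (K980.NumC.ell k κ ((g - 2 : ℕ) : ℤ) * K980.NumC.ell k κ ((g - 2 : ℕ) : ℤ)) * mk N hN * mk N hN := by
      rw [K980.BoxNum.bx_mul]
      exact (mul_mul_mul_comm _ _ _ _).trans (mul_assoc _ _ _).symm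
    rw [h5]
    exact K980.Inter.van_mul k hd hσp hN hNinv _ hi (v1 _ _ i hi)
  · rw [qf_fn k κ hd g hgen hκ hσ hσp hσ1 y hy hN hNinv]
    rw [Nat.cast_sub hg]
    push_cast
    ring

end K172.CanSq
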